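import Groth.Agent.Lib.EtSite.LowLeray
import Groth.Agent.Lib.EtSite.Push
import Groth.Agent.Lib.EtSite.PushStalk
import Groth.Agent.Lib.EtSite.UnitStalk
import Groth.Agent.Lib.ConstrEmb50.Main
import Groth.Agent.H88.EtMod.PointSupp
import Groth.Agent.Lib.CDivInt.Dim1
import Groth.Agent.Lib.Normalization.InFieldVariety
import Groth.Agent.Lib.Normalization.Birational

/-!
# Cohomology in degree at least two does not change under finite maps which are isomorphisms
away from closed points
-/

set_option autoImplicit false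
set_option backward.isDefEq.respectTransparency false
set_option linter.style.haveILetI false

universe u

open CategoryTheory CategoryTheory.Limits CategoryTheory.Abelian AlgebraicGeometry Opposite

noncomputable section

namespace Groth.Agent.Lib.NormH50.Main

open Groth.Agent.Lib.EtSite

variable {N X : Scheme.{u}} (ν : N ⟶ X)

theorem existsUnique_lift (U : X.Opens) [IsIso (ν ∣_ U)] {Ω : Type u} [Field Ω]
    (η : Spec (CommRingCat.of Ω) ⟶ X) (hη : η.base default ∈ U) :
    ∃! ξ : Spec (CommRingCat.of Ω) ⟶ N, ξ ≫ ν = η := by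
  have hr : Set.range η.base ⊆ Set.range U.ι.base := by
    rintro _ ⟨z, rfl⟩
    rw [Subsingleton.elim z default, Scheme.Opens.range_ι]
    exact hη
  refine ⟨IsOpenImmersion.lift U.ι η hr ≫ inv (ν ∣_ U) ≫ (ν ⁻¹ᵁ U).ι, ?_, fun ξ hξ => ?_⟩
  · simp only [Category.assoc]
    rw [← morphismRestrict_ι, IsIso.inv_hom_id_assoc, IsOpenImmersion.lift_fac]
  · have hr' : Set.range ξ.base ⊆ Set.range (ν ⁻¹ᵁ U).ι.base := by
      rintro _ ⟨z, rfl⟩
      rw [Subsingleton.elim z default, Scheme.Opens.range_ι]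
      show ν.base (ξ.base default) ∈ U
      rw [← hξ] at hη
      exact hη
    have h1 : IsOpenImmersion.lift (ν ⁻¹ᵁ U).ι ξ hr' ≫ ν ∣_ U = IsOpenImmersion.lift U.ι η hr := by
      rw [← cancel_mono U.ι, IsOpenImmersion.lift_fac, Category.assoc, morphismRestrict_ι,
        ← Category.assoc, IsOpenImmersion.lift_fac, hξ]
    rw [← h1, Category.assoc, IsIso.hom_inv_id_assoc, IsOpenImmersion.lift_fac]

/-- The unit is bijective on the stalks at points over which a finite morphism is an isomorphism. -/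
theorem bijective_stalk_unit [IsFinite ν] (U : X.Opens) [IsIso (ν ∣_ U)] (F : EtCoh.Ab X)
    {Ω : Type u} [Field Ω] [IsAlgClosed Ω] (η : Spec (CommRingCat.of Ω) ⟶ X) (hη : η.base default ∈ U) :
    Function.Bijective ((EtCoh.stalk η).map ((EtCoh.pullPushAdj ν).unit.app F)) := by
  obtain ⟨ξ, hξ, huniq⟩ := existsUnique_lift ν U η hη
  subst hξ
  have hu : Function.Bijective (UnitStalk.unitStalk ν ξ AddCommGrpCat.{u + 1} F) := by
    haveI := UnitStalk.isIso_unitStalk ν ξ AddCommGrpCat.{u + 1} F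
    exact ConcreteCategory.bijective_of_isIso _
  have hg := PushStalk.germTo_bijective (A := AddCommGrpCat.{u + 1}) ν (ξ ≫ ν)
    ((EtCoh.pull ν).obj F)
  let pt : {ζ : Spec (CommRingCat.of Ω) ⟶ N // ζ ≫ ν = ξ ≫ ν} := ⟨ξ, rfl⟩
  have hg' : Function.Injective fun z => (PushStalk.germTo ν AddCommGrpCat.{u + 1} pt.2).app
      ((EtCoh.pull ν).obj F) z := fun a b h => hg.1 (funext fun ζ => by
    obtain rfl : ζ = pt := Subtype.ext (huniq ζ.1 ζ.2)
    exact h)
  refine ⟨fun a b h => hu.1 ?_, fun c => ?_⟩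
  · exact congrArg (fun z => (PushStalk.germTo ν AddCommGrpCat.{u + 1} pt.2).app
      ((EtCoh.pull ν).obj F) z) h
  · obtain ⟨a, ha⟩ := hu.2 ((PushStalk.germTo ν AddCommGrpCat.{u + 1} pt.2).app
      ((EtCoh.pull ν).obj F) c)
    exact ⟨a, hg' ha⟩

theorem mono_unit [Surjective ν] (F : EtCoh.Ab X) : Mono ((EtCoh.pullPushAdj ν).unit.app F) := by
  refine Stalk.mono_of_stalks _ fun x => ?_
  obtain ⟨z, rfl⟩ := ν.surjective x
  refine ⟨_, inferInstance, inferInstance, Push.algPoint N z ≫ ν,
    congrArg ν.base (Push.algPoint_apply N z default), ?_⟩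
  haveI : IsIso ((EtCoh.pull ν).map ((EtCoh.pullPushAdj ν).unit.app F) ≫
      (EtCoh.pullPushAdj ν).counit.app ((EtCoh.pull ν).obj F)) := by
    have ht : (EtCoh.pull ν).map ((EtCoh.pullPushAdj ν).unit.app F) ≫
        (EtCoh.pullPushAdj ν).counit.app ((EtCoh.pull ν).obj F) = 𝟙 _ :=
      (EtCoh.pullPushAdj ν).left_triangle_components F
    rw [ht]; infer_instance
  exact ConstrEmb50.Main.stalk_injective ν _
    ((EtCoh.pullPushAdj ν).counit.app ((EtCoh.pull ν).obj F)) (Push.algPoint N z)

theorem supp_cokernel_unit [IsFinite ν] (U : X.Opens) [IsIso (ν ∣_ U)] (F : EtCoh.Ab X) :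
    EtPBC.supp (cokernel ((EtCoh.pullPushAdj ν).unit.app F)) ⊆ (U : Set X)ᶜ := by
  rintro x ⟨Ω, _, _, η₀, hη, hne⟩ hx
  refine hne ?_
  let e : Spec (CommRingCat.of (AlgebraicClosure Ω)) ⟶ Spec (CommRingCat.of Ω) :=
    Spec.map (CommRingCat.ofHom (algebraMap Ω (AlgebraicClosure Ω)))
  let η := e ≫ η₀
  suffices h0 : IsZero ((EtCoh.stalk η).obj (cokernel ((EtCoh.pullPushAdj ν).unit.app F))) by
    rw [EtJ.Supp.stalk_isZero_iff] at h0 ⊢
    intro V p s
    rw [EtJ.Supp.germ_eq_zero_iff_notMem]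
    let p' := EtSite.Basic.mkFiber η V (e ≫ EtSite.Basic.fiberHom p)
      (by rw [Category.assoc, EtSite.Basic.fiberHom_comp])
    have hp' : EtSite.Basic.fiberPt p' = EtSite.Basic.fiberPt p :=
      congrArg (EtSite.Basic.fiberHom p).base (Subsingleton.elim _ _)
    rw [← hp', ← EtJ.Supp.germ_eq_zero_iff_notMem]
    exact h0 V p' s
  have hb := bijective_stalk_unit ν U F η (by
    show η₀.base (e.base default) ∈ U
    rw [Subsingleton.elim (e.base default) default,
      Set.mem_singleton_iff.1 (hη ▸ Set.mem_range_self default : η₀.base default ∈ ({x} : Set X))]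
    exact hx)
  haveI : IsIso ((EtCoh.stalk η).map ((EtCoh.pullPushAdj ν).unit.app F)) :=
    (ConcreteCategory.isIso_iff_bijective _).2 hb
  have hz : (EtCoh.stalk η).map (cokernel.π ((EtCoh.pullPushAdj ν).unit.app F)) = 0 := by
    rw [← cancel_epi ((EtCoh.stalk η).map ((EtCoh.pullPushAdj ν).unit.app F)), comp_zero,
      ← Functor.map_comp, cokernel.condition, Functor.map_zero]
  exact IsZero.of_epi_eq_zero ((EtCoh.stalk η).map (cokernel.π ((EtCoh.pullPushAdj ν).unit.app F))) hz

variable {K : Type u} [Field K] [IsSepClosed K] (a : X ⟶ Spec (CommRingCat.of K))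
  [LocallyOfFiniteType a] [QuasiCompact a]

include a in
theorem bijective_Hpull [IsFinite ν] [Surjective ν] [EtCoh.BCCont ν]
    [PreservesFiniteLimits (EtCoh.pull ν)] (U : X.Opens) [IsIso (ν ∣_ U)]
    (hU : ∀ x, x ∉ U → IsClosed ({x} : Set X)) (F : EtCoh.Ab X) (q : ℕ) :
    Function.Bijective (EtCore.Hpull ν F (q + 2)) := by
  haveI : CompactSpace ↥X := QuasiCompact.compactSpace_of_compactSpace a
  haveI : IsLocallyNoetherian X := LocallyOfFiniteType.isLocallyNoetherian a
  have hC : ∀ r : ℕ, 0 < r →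
      Subsingleton (EtCoh.H X (cokernel ((EtCoh.pullPushAdj ν).unit.app F)) r) := fun r hr =>
    Groth.Agent.H88.EtMod.PointSupp.subsingleton_H_of_supp a _
      (fun x hx => hU x (supp_cokernel_unit ν U F hx)) r hr
  haveI := mono_unit ν F
  let S := ShortComplex.mk ((EtCoh.pullPushAdj ν).unit.app F) (cokernel.π _) (cokernel.condition _)
  have hS : S.ShortExact := { exact := ShortComplex.exact_cokernel _ }
  have hb : Function.Bijective fun x : EtCoh.H X F (q + 2) =>
      x.comp (Ext.mk₀ ((EtCoh.pullPushAdj ν).unit.app F)) (add_zero (q + 2)) := by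
    refine ⟨fun x y h => sub_eq_zero.1 ?_, fun y => ?_⟩
    · obtain ⟨z, hz⟩ := Ext.covariant_sequence_exact₁ _ hS (x - y)
        (((((Ext.mk₀ ((EtCoh.pullPushAdj ν).unit.app F)).postcomp _ (add_zero (q + 2))).map_sub x y).trans
          (sub_eq_zero.2 h))) (n₀ := q + 1) rfl
      rw [← hz, (hC (q + 1) (Nat.succ_pos _)).elim z 0, Ext.zero_comp]
    · exact Ext.covariant_sequence_exact₂ _ hS y ((hC (q + 2) (Nat.succ_pos _)).elim _ _)
  have hl := (LowLeray.lam_bijective ν (q + 2) ((EtCoh.pull ν).obj F)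
    (fun r hr _ => Push.isZero_Rpush ν _ r hr)).1 (q + 2) le_rfl
  exact (funext fun x => LowLeray.Hpull_eq_lam ν F (q + 2) x :
    (LowLeray.lam ν ((EtCoh.pull ν).obj F) (q + 2) : _ → _) ∘ _ = EtCore.Hpull ν F (q + 2)) ▸ hl.comp hb

/-- The normalization of an integral curve is an isomorphism outside closed points. -/
theorem exists_open (k : Type u) [Field k] (X : Scheme.{u}) [X.Over (Spec (CommRingCat.of k))]
    [LocallyOfFiniteType (X ↘ (Spec (CommRingCat.of k)))] [IsIntegral X]
    (hdim : topologicalKrullDim X ≤ 1)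
    [QuasiCompact (X.fromSpecStalk (genericPoint X))] [QuasiSeparated (X.fromSpecStalk (genericPoint X))] :
    ∃ U : X.Opens, IsIso (Curv2.normalizationι X ∣_ U) ∧ ∀ x, x ∉ U → IsClosed ({x} : Set X) := by
  obtain ⟨U, -, hne, hiso⟩ := Normalization.Birational.exists_iso X fun U _ hU => by
    let f := X ↘ (Spec (CommRingCat.of k))
    let ρ : k →+* Γ(X, U) := (f.appLE ⊤ U (by simp)).hom.comp
      (Scheme.ΓSpecIso (CommRingCat.of k)).inv.hom
    let : Algebra k Γ(X, U) := ρ.toAlgebra
    haveI : Algebra.FiniteType k Γ(X, U) :=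
      RingHom.FiniteType.comp (f.finiteType_appLE (isAffineOpen_top _) hU (by simp))
        (RingHom.FiniteType.of_surjective _ (ConcreteCategory.bijective_of_isIso
          (Scheme.ΓSpecIso (CommRingCat.of k)).inv).2)
    haveI := functionField_isFractionRing_of_isAffineOpen X U hU
    exact Normalization.FiniteField.finite_integralClosure k Γ(X, U) X.functionField X.functionField
  haveI : IsLocallyNoetherian X := LocallyOfFiniteType.isLocallyNoetherian (X ↘ (Spec (CommRingCat.of k)))
  refine ⟨U, hiso, fun x hx => CDivInt.isClosed_singleton_of_ne_genericPoint hdim fun e => hx ?_⟩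
  rw [e]
  exact ((genericPoint_spec X).mem_open_set_iff U.isOpen).2 (by simpa using hne)

end Groth.Agent.Lib.NormH50.Main
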