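import Groth.Agent.Lib.NormH50.Main
import Groth.Agent.Lib.GeomFib50.Main
import Groth.Agent.Lib.Gen50.Const
import Groth.Agent.Lib.EtRad.Push
import Groth.Agent.Lib.FibDense50.Main
import Groth.Agent.Lib.EtJ.Supp

/-!
# First cohomology of a constant sheaf along a finite map identifying two points
-/

set_option autoImplicit false
set_option backward.isDefEq.respectTransparency false
set_option linter.style.haveILetI false

universe u

open CategoryTheory CategoryTheory.Limits CategoryTheory.Abelian AlgebraicGeometry Opposite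

noncomputable section

namespace Groth.Agent.Lib.NormH50.One

open Groth.Agent.Lib.EtSite Groth.Agent.Lib.EtSite.Basic Groth.Agent.Lib.EtGerm.Basic
open Groth.Agent.Lib.LCStrict50.Const

theorem csec_bijective_connected {X : Scheme.{u}} [ConnectedSpace X] (M : AddCommGrpCat.{u + 1}) :
    Function.Bijective (csec (X := X) M (EtCoh.top X)) := by
  let p : ∀ x : X, _ := fun x => mkFiber (Push.algPoint X x) (EtCoh.top X) (Push.algPoint X x) (Category.comp_id _)
  refine ⟨(injective_iff_map_eq_zero _).2 fun m hm => eq_zero_of_germ_csec M _ _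
    (p (Classical.arbitrary X)) m (by rw [hm, map_zero]), fun s => ?_⟩
  choose m hm using fun x : X => (Gen50.Const.germ_csec_bijective M _ (p x)).2
    (germ (cst X M) (Push.algPoint X x) (EtCoh.top X) (p x) s)
  have hfib : ∀ x : X, fiberPt (p x) = x := fun x => Push.algPoint_apply X x _
  have key : ∀ (b : M) (x : X), m x = b ↔
      x ∉ EtShriek.sectSupp (cst X M) (EtCoh.top X) (s - csec M (EtCoh.top X) b) := by
    intro b x
    conv_rhs => rw [← hfib x, ← EtJ.Supp.germ_eq_zero_iff_notMem]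
    refine ⟨fun h => ?_, fun h => (Gen50.Const.germ_csec_bijective M _ (p x)).1 ((hm x).trans ?_)⟩
    · refine (map_sub _ s _).trans (sub_eq_zero.2 ?_)
      rw [← h]; exact (hm x).symm
    · exact sub_eq_zero.1 ((map_sub _ s _).symm.trans h)
  let c : LocallyConstant X M := ⟨m, (IsLocallyConstant.iff_exists_open m).2 fun x =>
    ⟨(EtShriek.sectSupp (cst X M) (EtCoh.top X) (s - csec M (EtCoh.top X) (m x)))ᶜ,
      (EtJ.Supp.isClosed_sectSupp _ _ _).isOpen_compl, (key _ x).1 rfl, fun y hy => (key _ y).2 hy⟩⟩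
  refine ⟨m (Classical.arbitrary X), Stalk.sections_ext_of_germ _ _ _ (Stalk.enoughPts_pt fun z t => ?_)⟩
  refine (sub_eq_zero.1 ((map_sub _ s _).symm.trans ((EtJ.Supp.germ_eq_zero_iff_notMem _ _ t _).2
    ((key _ (fiberPt t)).1 ?_)))).symm
  exact c.isLocallyConstant.apply_eq_of_preconnectedSpace _ _

theorem card_H0 {X : Scheme.{u}} [ConnectedSpace X] (M : AddCommGrpCat.{u + 1}) :
    Nat.card (EtCoh.H X (cst X M) 0) = Nat.card M :=
  Nat.card_congr ((Sheaf.H.equiv₀ (cst X M) (EtCore.topIsTerminal X)).toEquiv.trans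
    (Equiv.ofBijective _ (csec_bijective_connected M)).symm)

theorem card_stalk_cst {X : Scheme.{u}} (M : AddCommGrpCat.{u + 1}) {Ω : Type u} [Field Ω] [IsSepClosed Ω]
    (η : Spec (CommRingCat.of Ω) ⟶ X) : Nat.card ((EtCoh.stalk η).obj (cst X M)) = Nat.card M :=
  (Nat.card_congr (Equiv.ofBijective _ (Gen50.Const.germ_csec_bijective M η
    (mkFiber η (EtCoh.top X) η (Category.comp_id _))))).symm

theorem card_iso {A B : AddCommGrpCat.{u + 1}} (e : A ≅ B) : Nat.card A = Nat.card B :=
  Nat.card_congr e.addCommGroupIsoToAddEquiv.toEquiv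

theorem card_H_iso {X : Scheme.{u}} {F G : EtCoh.Ab X} (e : F ≅ G) (q : ℕ) :
    Nat.card (EtCoh.H X F q) = Nat.card (EtCoh.H X G q) :=
  Nat.card_congr ((EtCoh.HF X q).mapIso e).addCommGroupIsoToAddEquiv.toEquiv

theorem card_H0_point {Ω : Type u} [Field Ω] [IsSepClosed Ω] (H : EtCoh.Ab (Spec (CommRingCat.of Ω))) :
    Nat.card (EtCoh.H (Spec (CommRingCat.of Ω)) H 0) = Nat.card ((EtCoh.stalk (𝟙 (Spec (CommRingCat.of Ω)))).obj H) := by
  obtain ⟨e⟩ := FibDense50.Main.nonempty_iso_cst Ω H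
  rw [← card_H_iso e 0, ← card_iso ((EtCoh.stalk (𝟙 _)).mapIso e), card_stalk_cst,
    Nat.card_congr (GeomFib50.Main.hField (AddCommGrpCat.of (EtCoh.sect H (EtCoh.top _))) Ω)]

theorem card_H0_supp_point {X : Scheme.{u}} (C : EtCoh.Ab X) {x₀ : X} [IsAlgClosed (X.residueField x₀)]
    [IsSepClosed (IsLocalRing.ResidueField (X.presheaf.stalk x₀))]
    (hx : IsClosed ({x₀} : Set X)) (hC : EtPBC.supp C ⊆ {x₀}) :
    Nat.card (EtCoh.H X C 0) = Nat.card ((EtCoh.stalk (X.fromSpecResidueField x₀)).obj C) := by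
  haveI : IsAlgClosed (IsLocalRing.ResidueField (X.presheaf.stalk x₀)) := ‹IsAlgClosed (X.residueField x₀)›
  haveI : IsSepClosed (IsLocalRing.ResidueField (X.presheaf.stalk x₀)) := inferInstance
  haveI : IsClosedImmersion (X.fromSpecResidueField x₀) := isClosed_singleton_iff_isClosedImmersion.1 hx
  haveI := EtRad.Push.isIso_unit (X.fromSpecResidueField x₀) C (by
    intro z hz
    rw [Scheme.range_fromSpecResidueField]
    exact hC hz)
  refine (card_H_iso (asIso ((EtCoh.pullPushAdj (X.fromSpecResidueField x₀)).unit.app C)) 0).trans ?_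
  refine (Nat.card_congr (Equiv.ofBijective _ (LowLeray.lam_zero_bijective (X.fromSpecResidueField x₀) _))).trans ?_
  refine (card_H0_point (Ω := X.residueField x₀) _).trans ?_
  refine (card_iso ((Pull.stalkPull (X.fromSpecResidueField x₀) (𝟙 _)).app C)).trans ?_
  exact congrArg (fun η => Nat.card ((EtCoh.stalk η).obj C)) (Category.id_comp _)

theorem card_lifts {N X : Scheme.{u}} (ν : N ⟶ X) [IsFinite ν] {Ω : Type u} [Field Ω] [IsAlgClosed Ω]
    (η : Spec (CommRingCat.of Ω) ⟶ X) [IsPreimmersion η] :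
    Nat.card {ξ : Spec (CommRingCat.of Ω) ⟶ N // ξ ≫ ν = η} =
      Nat.card {y : N // ν.base y = η.base default} := by
  have h0 : ∀ ξ : {ξ : Spec (CommRingCat.of Ω) ⟶ N // ξ ≫ ν = η}, ν.base (ξ.1.base default) = η.base default :=
    fun ξ => congrArg (fun g : Spec (CommRingCat.of Ω) ⟶ X => g.base default) ξ.2
  refine Nat.card_eq_of_bijective (fun ξ => ⟨ξ.1.base default, h0 ξ⟩) ⟨fun a b hab => ?_, fun y => ?_⟩
  · have hab' : a.1.base default = b.1.base default := congrArg Subtype.val hab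
    let S : ∀ ξ : {ξ : Spec (CommRingCat.of Ω) ⟶ N // ξ ≫ ν = η}, Spec (CommRingCat.of Ω) ⟶ pullback ν η :=
      fun ξ => pullback.lift ξ.1 (𝟙 _) (by rw [Category.id_comp]; exact ξ.2)
    have hf : ∀ ξ, (pullback.fst ν η).base ((S ξ).base default) = ξ.1.base default := fun ξ =>
      congrArg (fun g : Spec (CommRingCat.of Ω) ⟶ N => g.base default) (pullback.lift_fst ξ.1 (𝟙 _) _)
    haveI : IsPreimmersion (pullback.fst ν η) := MorphismProperty.pullback_fst ν η inferInstance
    have h : (S a).base default = (S b).base default :=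
      (pullback.fst ν η).isEmbedding.injective ((hf a).trans (hab'.trans (hf b).symm))
    have h1 := FieldExt.eq_comp_section (h := pullback.snd ν η) (s := S b) (pullback.lift_snd _ _ _) (S a) h
    rw [pullback.lift_snd, Category.id_comp] at h1
    have h2 := congrArg (· ≫ pullback.fst ν η) h1
    exact Subtype.ext ((pullback.lift_fst _ _ _).symm.trans (h2.trans (pullback.lift_fst _ _ _)))
  · obtain ⟨y, hy⟩ := y
    obtain ⟨z, hz, -⟩ := Scheme.Pullback.exists_preimage_pullback (f := ν) (g := η) y default hy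
    obtain ⟨t, ht, ht'⟩ := FieldExt.exists_section_of_isIntegralHom (pullback.snd ν η) z
    refine ⟨⟨t ≫ pullback.fst ν η, ?_⟩, Subtype.ext ?_⟩
    · rw [Category.assoc, pullback.condition, ← Category.assoc, ht, Category.id_comp]
    · exact (congrArg (pullback.fst ν η).base ht').trans hz

theorem card_stalk_push {N X : Scheme.{u}} (ν : N ⟶ X) [IsFinite ν] (F : EtCoh.Ab X) {Ω : Type u} [Field Ω]
    [IsAlgClosed Ω] (η : Spec (CommRingCat.of Ω) ⟶ X) :
    Nat.card ((EtCoh.stalk η).obj ((EtCoh.push ν).obj ((EtCoh.pull ν).obj F))) =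
      Nat.card ((EtCoh.stalk η).obj F) ^ Nat.card {ξ : Spec (CommRingCat.of Ω) ⟶ N // ξ ≫ ν = η} := by
  haveI := PushStalk.finite_points ν η
  cases nonempty_fintype {ξ : Spec (CommRingCat.of Ω) ⟶ N // ξ ≫ ν = η}
  refine (Nat.card_eq_of_bijective _ (PushStalk.germTo_bijective (A := AddCommGrpCat.{u + 1}) ν η
    ((EtCoh.pull ν).obj F))).trans ?_
  rw [Nat.card_pi]
  refine (Finset.prod_congr rfl (g := fun _ => Nat.card ((EtCoh.stalk η).obj F)) fun ξ _ =>
    (card_iso ((Pull.stalkPull ν ξ.1).app F)).trans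
      (congrArg (fun ζ => Nat.card ((EtCoh.stalk ζ).obj F)) ξ.2)).trans ?_
  rw [Finset.prod_const, Finset.card_univ, Fintype.card_eq_nat_card]

variable {N X : Scheme.{u}} (ν : N ⟶ X) {K : Type u} [Field K] [IsSepClosed K]
  (a : X ⟶ Spec (CommRingCat.of K)) [LocallyOfFiniteType a] [QuasiCompact a]

include a in
theorem main [IsFinite ν] [Surjective ν] [EtCoh.BCCont ν] [PreservesFiniteLimits (EtCoh.pull ν)]
    [ConnectedSpace X] [ConnectedSpace N] (U : X.Opens) [IsIso (ν ∣_ U)] (x₀ : X)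
    [IsAlgClosed (X.residueField x₀)] (hx : IsClosed ({x₀} : Set X))
    (hU : (U : Set X)ᶜ ⊆ {x₀}) (h2 : Nat.card {y : N // ν.base y = x₀} = 2)
    (M : AddCommGrpCat.{u + 1}) [Finite M] (F : EtCoh.Ab X) (e : cst X M ≅ F) :
    Function.Surjective (EtCore.Hpull ν F 1) ∧ Nat.card (EtCore.Hpull ν F 1).ker = Nat.card M := by
  haveI : CompactSpace ↥X := QuasiCompact.compactSpace_of_compactSpace a
  haveI : IsLocallyNoetherian X := LocallyOfFiniteType.isLocallyNoetherian a
  let η := (EtCoh.pullPushAdj ν).unit.app F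
  haveI : Mono η := Main.mono_unit ν F
  let S := ShortComplex.mk η (cokernel.π _) (cokernel.condition _)
  have hS : S.ShortExact := { exact := ShortComplex.exact_cokernel _ }
  have hsupp : EtPBC.supp S.X₃ ⊆ {x₀} := (Main.supp_cokernel_unit ν U F).trans hU
  haveI hC1 : Subsingleton (EtCoh.H X S.X₃ 1) :=
    Groth.Agent.H88.EtMod.PointSupp.subsingleton_H_of_supp a _
      (fun x hx' => by rw [show x = x₀ from hsupp hx']; exact hx) 1 one_pos
  have hM : 0 < Nat.card M := Nat.card_pos
  -- global sections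
  let p0 : EtCoh.H X F 0 → EtCoh.H X S.X₂ 0 := fun x => x.comp (Ext.mk₀ η) (add_zero 0)
  have hp0i : Function.Injective p0 := Ext.postcomp_mk₀_injective_of_mono _ η
  have hcF : Nat.card (EtCoh.H X F 0) = Nat.card M := (card_H_iso e 0).symm.trans (card_H0 M)
  have hcG : Nat.card (EtCoh.H X S.X₂ 0) = Nat.card M := by
    refine (Nat.card_congr (Equiv.ofBijective _ (LowLeray.lam_zero_bijective ν ((EtCoh.pull ν).obj F)))).trans ?_
    exact (card_H_iso (Gen50.Const.iso ν M ≪≫ (EtCoh.pull ν).mapIso e) 0).symm.trans (card_H0 M)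
  haveI : Finite (EtCoh.H X S.X₂ 0) := Nat.finite_of_card_ne_zero (by omega)
  have hp0 : Function.Bijective p0 := hp0i.bijective_of_nat_card_le (by omega)
  -- the stalk of the cokernel
  haveI : IsAlgClosed (IsLocalRing.ResidueField (X.presheaf.stalk x₀)) := ‹IsAlgClosed (X.residueField x₀)›
  haveI : IsSepClosed (IsLocalRing.ResidueField (X.presheaf.stalk x₀)) := inferInstance
  let i := X.fromSpecResidueField x₀
  let Ω := X.residueField x₀
  have hcC : Nat.card (EtCoh.H X S.X₃ 0) = Nat.card M := by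
    refine (card_H0_supp_point S.X₃ hx hsupp).trans ?_
    have hT := hS.map_of_exact (EtCoh.stalk (i : Spec (CommRingCat.of Ω) ⟶ X))
    have hex := (ShortComplex.ab_exact_iff _).1 hT.exact
    have hs := (AddCommGrpCat.epi_iff_surjective _).1 hT.epi_g
    have hi := (AddCommGrpCat.mono_iff_injective _).1 hT.mono_f
    let f := ((EtCoh.stalk (i : Spec (CommRingCat.of Ω) ⟶ X)).map S.f).hom
    let g := ((EtCoh.stalk (i : Spec (CommRingCat.of Ω) ⟶ X)).map S.g).hom
    have hker : g.ker = f.range := by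
      ext z
      refine ⟨fun hz => hex z hz, ?_⟩
      rintro ⟨w, rfl⟩
      exact ShortComplex.ab_zero_apply (S.map (EtCoh.stalk (i : Spec (CommRingCat.of Ω) ⟶ X))) w
    have h1 : Nat.card f.range = Nat.card M := by
      refine (Nat.card_congr (AddMonoidHom.ofInjective (f := f) hi).toEquiv).symm.trans ?_
      exact (card_iso ((EtCoh.stalk (i : Spec (CommRingCat.of Ω) ⟶ X)).mapIso e)).symm.trans
        (card_stalk_cst M _)
    have h3 : Nat.card ((EtCoh.stalk (i : Spec (CommRingCat.of Ω) ⟶ X)).obj S.X₂) = Nat.card M ^ 2 := by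
      refine (card_stalk_push ν F (Ω := Ω) i).trans ?_
      haveI : IsPreimmersion i := inferInstance
      rw [card_lifts ν (Ω := Ω) i]
      refine (congrArg (fun t => _ ^ t) (?_ : _ = 2)).trans ?_
      · refine (Nat.card_congr (Equiv.subtypeEquivRight fun y => ?_)).trans h2
        exact Iff.of_eq (congrArg (fun t => ν.base y = t) (Scheme.fromSpecResidueField_apply x₀ _))
      exact congrArg (· ^ 2) ((card_iso ((EtCoh.stalk (i : Spec (CommRingCat.of Ω) ⟶ X)).mapIso e)).symm.trans
        (card_stalk_cst M _))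
    have h4 := AddSubgroup.card_eq_card_quotient_mul_card_addSubgroup g.ker
    rw [Nat.card_congr (QuotientAddGroup.quotientKerEquivOfSurjective g hs).toEquiv, hker, h1] at h4
    change Nat.card ((EtCoh.stalk (i : Spec (CommRingCat.of Ω) ⟶ X)).obj S.X₂) = _ at h4
    rw [h3, pow_two] at h4
    exact (Nat.eq_of_mul_eq_mul_right hM h4).symm
  let p1 : EtCoh.H X F 1 →+ EtCoh.H X S.X₂ 1 := (Ext.mk₀ η).postcomp _ (add_zero 1)
  have hl := (LowLeray.lam_bijective ν 1 ((EtCoh.pull ν).obj F)
    (fun r hr _ => Push.isZero_Rpush ν _ r hr)).1 1 le_rfl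
  have hH : EtCore.Hpull ν F 1 = (LowLeray.lam ν ((EtCoh.pull ν).obj F) 1).comp p1 :=
    AddMonoidHom.ext fun x => (LowLeray.Hpull_eq_lam ν F 1 x).symm
  refine ⟨?_, ?_⟩
  · rw [hH]
    exact hl.2.comp fun y => Ext.covariant_sequence_exact₂ _ hS y (hC1.elim _ _)
  · have hk : (EtCore.Hpull ν F 1).ker = p1.ker := by
      ext x
      rw [hH, AddMonoidHom.mem_ker, AddMonoidHom.mem_ker, AddMonoidHom.comp_apply,
        map_eq_zero_iff _ hl.1]
      exact Iff.rfl
    let δ : EtCoh.H X S.X₃ 0 →+ EtCoh.H X F 1 := hS.extClass.postcomp _ rfl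
    have hδi : Function.Injective δ := (injective_iff_map_eq_zero _).2 fun c hc => by
      obtain ⟨b, rfl⟩ := Ext.covariant_sequence_exact₃ _ hS c rfl hc
      obtain ⟨b', rfl⟩ := hp0.2 b
      refine (Ext.comp_assoc_of_second_deg_zero b' (Ext.mk₀ η) (Ext.mk₀ S.g) _).trans ?_
      rw [Ext.mk₀_comp_mk₀, show η ≫ S.g = 0 from S.zero, Ext.mk₀_zero, Ext.comp_zero]
    have hr : δ.range = p1.ker := by
      ext x
      constructor
      · rintro ⟨c, rfl⟩
        show (c.comp hS.extClass rfl).comp (Ext.mk₀ η) (add_zero 1) = 0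
        rw [Ext.comp_assoc_of_third_deg_zero]
        exact (congrArg (fun m => c.comp m rfl) hS.extClass_comp).trans (Ext.comp_zero _ _ _ _ _)
      · intro hx'
        exact Ext.covariant_sequence_exact₁ _ hS x hx' (n₀ := 0) rfl
    rw [hk, ← hr, Nat.card_congr (AddMonoidHom.ofInjective hδi).toEquiv.symm, hcC]

end Groth.Agent.Lib.NormH50.One
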